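import Mathlib

/-!
Newton approximation with respect to an ideal of completeness.
-/

set_option autoImplicit false
universe u

open Polynomial

namespace Groth.Agent.Lib.DescExt4

variable {S : Type u} [CommRing S] (I : Ideal S)

theorem eval_mem_of_coeff_mem {Q : S[X]} {J : Ideal S} (h : ∀ i, Q.coeff i ∈ J) (a : S) :
    Q.eval a ∈ J := by
  rw [eval_eq_sum, sum_def]
  exact sum_mem fun i _ => Ideal.mul_mem_right _ _ (h i)

theorem exists_fixed_point [IsAdicComplete I S] (e : S) (c : ℕ) (he : e ∈ I ^ (c + 1)) (z : S[X]) :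
    ∃ y ∈ I ^ (c + 1), e + y + y ^ 2 * z.eval y = 0 := by
  let T : S → S := fun y => -(e + y ^ 2 * z.eval y)
  let s : ℕ → S := fun n => T^[n] 0
  have hs : ∀ n, s (n + 1) = T (s n) := fun n => Function.iterate_succ_apply' T n 0
  have hlip : ∀ (j : ℕ) (a b : S), a ∈ I → b ∈ I → a - b ∈ I ^ j → T a - T b ∈ I ^ (j + 1) := by
    intro j a b ha hb hab
    obtain ⟨w, hw⟩ := sub_dvd_eval_sub a b z
    have : T a - T b = -((a - b) * ((a + b) * z.eval a + b ^ 2 * w)) := by
      simp only [T]
      linear_combination -(b ^ 2) * hw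
    rw [this, pow_succ]
    refine neg_mem (Ideal.mul_mem_mul hab ?_)
    refine add_mem (Ideal.mul_mem_right _ _ (add_mem ha hb)) (Ideal.mul_mem_right _ _ ?_)
    exact Ideal.pow_mem_of_mem _ hb 2 two_pos
  have hle : I ^ (c + 1) ≤ I := Ideal.pow_le_self (Nat.succ_ne_zero c)
  have hin : ∀ n, s n ∈ I ^ (c + 1) := by
    intro n
    induction n with
    | zero => exact zero_mem _
    | succ n ih =>
      rw [hs]
      exact neg_mem (add_mem he (Ideal.mul_mem_right _ _ (Ideal.pow_mem_of_mem _ ih 2 two_pos)))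
  have hstep : ∀ n, s (n + 1) - s n ∈ I ^ (n + 1) := by
    intro n
    induction n with
    | zero => simpa [s, T] using hle he
    | succ n ih =>
      have := hlip (n + 1) _ _ (hle (hin (n + 1))) (hle (hin n)) ih
      rwa [← hs, ← hs] at this
  have hcau : ∀ {i j}, i ≤ j → s i - s j ∈ I ^ i := by
    intro i j hij
    induction j, hij using Nat.le_induction with
    | base => simp
    | succ j hij ih =>
      have h2 := Ideal.pow_le_pow_right (I := I) (hij.trans (Nat.le_succ j)) (hstep j)
      rw [show s i - s (j + 1) = (s i - s j) - (s (j + 1) - s j) by ring]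
      exact sub_mem ih h2
  obtain ⟨y, hy⟩ := IsPrecomplete.prec' (I := I) (M := S) s fun {i j} hij => by
    rw [SModEq.sub_mem]
    simpa using hcau hij
  have hy' : ∀ n, s n - y ∈ I ^ n := fun n => by
    have := hy n
    rw [SModEq.sub_mem] at this
    simpa using this
  have hym : y ∈ I ^ (c + 1) := by
    have := sub_mem (hin (c + 1)) (hy' (c + 1))
    rwa [sub_sub_cancel] at this
  refine ⟨y, hym, ?_⟩
  refine IsHausdorff.haus (I := I) inferInstance _ fun n => ?_
  rw [SModEq.zero]
  have h1 : s (n + 1) - y ∈ I ^ n :=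
    Ideal.pow_le_pow_right (Nat.le_succ n) (hy' (n + 1))
  have h2 : T (s n) - T y ∈ I ^ n :=
    Ideal.pow_le_pow_right (Nat.le_succ n) (hlip n _ _ (hle (hin n)) (hle hym) (hy' n))
  rw [← hs] at h2
  have h3 := sub_mem h2 h1
  rw [show s (n + 1) - T y - (s (n + 1) - y) = y - T y by ring] at h3
  have h4 : e + y + y ^ 2 * z.eval y ∈ I ^ n := by
    rw [show e + y + y ^ 2 * z.eval y = y - T y by simp [T]; ring]
    exact h3
  simpa using h4

/-- A polynomial close to one with a root `α` has a root close to `α`, provided a power of the ideal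
lies in the ideal generated by the derivative at `α`. -/
theorem exists_root_close [IsAdicComplete I S] (P D : S[X]) (α : S) (hα : P.eval α = 0) (k c : ℕ)
    (hk : I ^ k ≤ Ideal.span {(derivative P).eval α})
    (hD : ∀ i, D.coeff i ∈ I ^ (2 * k + c + 1)) :
    ∃ β : S, (P + D).eval β = 0 ∧ β - α ∈ I ^ (c + 1) := by
  set d := (derivative P).eval α with hd
  have hD1 : (derivative D).eval α ∈ I ^ (2 * k + c + 1) := by
    refine eval_mem_of_coeff_mem (fun i => ?_) α
    rw [coeff_derivative]
    exact Ideal.mul_mem_right _ _ (hD (i + 1))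
  have hdk : I ^ (2 * k + c + 1) ≤ Ideal.span {d * d} * I ^ (c + 1) := by
    rw [show 2 * k + c + 1 = k + k + (c + 1) by ring, pow_add, pow_add,
      ← Ideal.span_singleton_mul_span_singleton]
    exact Ideal.mul_mono (Ideal.mul_mono hk hk) le_rfl
  obtain ⟨e, he, hed⟩ := Ideal.mem_span_singleton_mul.1 (hdk (eval_mem_of_coeff_mem hD α))
  obtain ⟨e', he', hed'⟩ := Ideal.mem_span_singleton_mul.1 (hdk hD1)
  have hu : IsUnit (1 + d * e') := by
    have := Ideal.mem_jacobson_bot.mp
      (IsAdicComplete.le_jacobson_bot I (Ideal.pow_le_self (Nat.succ_ne_zero c) he')) d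
    rwa [add_comm, mul_comm]
  obtain ⟨u, hu⟩ := hu
  obtain ⟨z, hz⟩ := ((P + D).map C).binomExpansion (C α) (C d * X)
  obtain ⟨y, hy, hy0⟩ := exists_fixed_point I (((u⁻¹ : Sˣ) : S) * e) c
    (Ideal.mul_mem_left _ _ he) (C ((u⁻¹ : Sˣ) : S) * z)
  refine ⟨α + d * y, ?_, by simpa using Ideal.mul_mem_left _ d hy⟩
  have := congrArg (Polynomial.eval y) hz
  simp only [eval_add, eval_mul, eval_C, eval_X, eval_pow] at this
  have key : ∀ R : S[X], ((R.map C).eval (C α + C d * X)).eval y = R.eval (α + d * y) := fun R => by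
    rw [eval_map, ← coe_evalRingHom, hom_eval₂,
      show (evalRingHom y).comp C = RingHom.id S from RingHom.ext fun a => eval_C]
    simp [eval₂_id]
  have key' : ∀ R : S[X], ((R.map C).eval (C α)).eval y = R.eval α := fun R => by
    rw [eval_map, eval₂_at_apply, eval_C]
  rw [key, key', derivative_map, key', derivative_add] at this
  simp only [eval_add] at this
  rw [hα, ← hd, ← hed, ← hed'] at this
  rw [eval_add, this]
  simp only [eval_mul, eval_C] at hy0
  linear_combination (d * d * (u : S)) * hy0 - d * d * y * hu -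
    (d * d * e + d * d * y ^ 2 * z.eval y) * u.mul_inv

end Groth.Agent.Lib.DescExt4
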