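import Mathlib
import Groth.Agent.Lib.AdicLim.Finite
import Groth.Agent.Lib.DescExt4.Newton

/-!
Finite separable extensions of the fraction field of a complete DVR are stable under small
perturbations of the minimal polynomial.
-/

set_option autoImplicit false
universe u

open Polynomial IsLocalRing

namespace Groth.Agent.Lib.DescExt4

variable {R Kh M : Type u} [CommRing R] [IsDomain R] [IsDiscreteValuationRing R]
  [IsAdicComplete (maximalIdeal R) R] [Field Kh] [Algebra R Kh] [IsFractionRing R Kh]
  [Field M] [Algebra Kh M] [Algebra R M] [IsScalarTower R Kh M] [FiniteDimensional Kh M]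
  [Algebra.IsSeparable Kh M]

omit [FiniteDimensional Kh M] [Algebra.IsSeparable Kh M] [IsAdicComplete (maximalIdeal R) R]
  [IsDiscreteValuationRing R] in
theorem exists_integral_primitive [FiniteDimensional Kh M] [Algebra.IsSeparable Kh M] :
    ∃ α : M, IsIntegral R α ∧ (minpoly Kh α).natDegree = Module.finrank Kh M := by
  obtain ⟨α₀, hα₀⟩ := Field.exists_primitive_element Kh M
  obtain ⟨⟨t, ht⟩, hint⟩ :=
    IsIntegral.exists_multiple_integral_of_isLocalization (nonZeroDivisors R) (Rₘ := Kh) α₀
      (Algebra.IsIntegral.isIntegral α₀)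
  refine ⟨t • α₀, hint, (Field.primitive_element_iff_minpoly_natDegree_eq Kh _).mp ?_⟩
  refine eq_top_iff.mpr (hα₀.symm.le.trans (IntermediateField.adjoin_simple_le_iff.mpr ?_))
  have ht0 : algebraMap R Kh t ≠ 0 :=
    IsFractionRing.to_map_ne_zero_of_mem_nonZeroDivisors ht
  have h1 : (t • α₀ : M) ∈ IntermediateField.adjoin Kh {(t • α₀ : M)} :=
    IntermediateField.mem_adjoin_simple_self _ _
  have h2 := IntermediateField.smul_mem _ h1 (x := (algebraMap R Kh t)⁻¹)
  rw [← IsScalarTower.algebraMap_smul Kh t α₀] at h2 ⊢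
  rwa [smul_smul, inv_mul_cancel₀ ht0, one_smul] at h2

theorem exists_approx :
    ∃ (n N : ℕ) (a : Fin n → R), n = Module.finrank Kh M ∧ ∀ b : Fin n → R,
      (∀ i, b i - a i ∈ maximalIdeal R ^ N) →
      ∃ β : M, minpoly Kh β =
        (X ^ n + ∑ i : Fin n, C (b i) * X ^ (i : ℕ)).map (algebraMap R Kh) := by
  obtain ⟨α, hαint, hαdeg⟩ := exists_integral_primitive (R := R) (Kh := Kh) (M := M)
  obtain ⟨ϖ, hϖ⟩ := IsDiscreteValuationRing.exists_irreducible R
  have hm : maximalIdeal R = Ideal.span {ϖ} := hϖ.maximalIdeal_eq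
  set P := minpoly R α with hP
  have hmap : P.map (algebraMap R Kh) = minpoly Kh α :=
    (minpoly.isIntegrallyClosed_eq_field_fractions Kh M hαint).symm
  have hPmonic : P.Monic := minpoly.monic hαint
  set n := P.natDegree with hn
  have hnf : n = Module.finrank Kh M := by
    rw [hn, ← hαdeg, ← hmap, hPmonic.natDegree_map]
  haveI : Module.Finite R (integralClosure R M) :=
    IsIntegralClosure.finite R Kh M (integralClosure R M)
  let B := integralClosure R M
  let αB : integralClosure R M := ⟨α, hαint⟩
  set J : Ideal (integralClosure R M) :=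
    (maximalIdeal R).map (algebraMap R (integralClosure R M)) with hJ
  haveI : IsAdicComplete (maximalIdeal R) (integralClosure R M) :=
    GrothLib.AdicLim.isAdicComplete_of_finite (maximalIdeal R) _
  haveI : IsAdicComplete J (integralClosure R M) := (IsAdicComplete.map_algebraMap_iff _ _).2 ‹_›
  have hJpow : ∀ j, J ^ j = Ideal.span {algebraMap R (integralClosure R M) (ϖ ^ j)} := by
    intro j
    rw [hJ, hm, ← Ideal.map_pow, Ideal.span_singleton_pow, Ideal.map_span, Set.image_singleton]
  have hpow : ∀ r : R, r ≠ 0 → ∃ k : ℕ, r ∣ ϖ ^ k := fun r hr => by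
    obtain ⟨k, u, rfl⟩ := IsDiscreteValuationRing.eq_unit_mul_pow_irreducible hr hϖ
    exact ⟨k, ⟨↑u⁻¹, by rw [mul_comm, ← mul_assoc]; simp⟩⟩
  -- the derivative divides a power of the uniformizer
  set PB := P.map (algebraMap R (integralClosure R M)) with hPB
  have hPBα : PB.eval αB = 0 := by
    rw [hPB, eval_map, ← aeval_def]
    apply Subtype.ext
    rw [← Subalgebra.coe_val, ← aeval_algHom_apply, hP]
    simp [αB]
  set d := (derivative PB).eval αB with hd
  have hd0 : d ≠ 0 := by
    intro h0
    have h1 : ((derivative (minpoly Kh α)).map (algebraMap Kh M)).eval α = 0 := by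
      rw [← hmap, derivative_map, map_map, ← IsScalarTower.algebraMap_eq]
      have := congrArg (fun z : integralClosure R M => (z : M)) h0
      rw [hd, hPB, derivative_map, eval_map, ← aeval_def] at this
      rw [eval_map, ← aeval_def, ← show (integralClosure R M).val αB = α from rfl,
        aeval_algHom_apply]
      exact this
    rw [eval_map, ← aeval_def] at h1
    exact (Algebra.IsSeparable.isSeparable Kh α).aeval_derivative_ne_zero (minpoly.aeval _ _) h1
  obtain ⟨k, hk⟩ : ∃ k, J ^ k ≤ Ideal.span {d} := by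
    have hdint : IsIntegral R d := Algebra.IsIntegral.isIntegral d
    have hc0 : (minpoly R d).coeff 0 ≠ 0 := by
      intro h0
      have h1 : (minpoly Kh (d : M)).coeff 0 = 0 := by
        rw [minpoly.isIntegrallyClosed_eq_field_fractions' Kh d.2, coeff_map,
          ← show (integralClosure R M).val d = (d : M) from rfl,
          minpoly.algHom_eq _ Subtype.val_injective, h0, map_zero]
      exact minpoly.coeff_zero_ne_zero (Algebra.IsIntegral.isIntegral _)
        (fun hd1 => hd0 (Subtype.ext hd1)) h1
    obtain ⟨k, hk⟩ := hpow _ hc0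
    refine ⟨k, ?_⟩
    rw [hJpow, Ideal.span_singleton_le_span_singleton]
    refine dvd_trans ?_ (map_dvd (algebraMap R (integralClosure R M)) hk)
    have h := minpoly.aeval R d
    rw [← Polynomial.X_mul_divX_add (minpoly R d), map_add, map_mul, aeval_X, aeval_C] at h
    exact ⟨-(aeval d (minpoly R d).divX), by linear_combination h⟩
  -- the lattice spanned by the powers of `α`
  let pw : Fin n → integralClosure R M := fun i => αB ^ (i : ℕ)
  have hliα : LinearIndependent R fun i : Fin n => α ^ (i : ℕ) := by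
    rw [LinearIndependent.iff_fractionRing R Kh]
    have : (minpoly Kh α).natDegree = n := by rw [hn, ← hmap, hPmonic.natDegree_map]
    rw [← this]
    exact linearIndependent_pow α
  obtain ⟨l, hl⟩ : ∃ l, ∀ b : integralClosure R M,
      ϖ ^ l • b ∈ Submodule.span R (Set.range pw) := by
    have hbot : ∀ b : integralClosure R M, ∃ l, ϖ ^ l • b ∈ Submodule.span R (Set.range pw) := by
      intro b
      have hb : (b : M) ∈ Submodule.span Kh (Set.range fun i : Fin n => α ^ (i : ℕ)) := by
        rw [LinearIndependent.span_eq_top_of_card_eq_finrank'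
          ((LinearIndependent.iff_fractionRing R Kh).mp hliα) (by rw [Fintype.card_fin, hnf])]
        trivial
      obtain ⟨c, hc⟩ := (Submodule.mem_span_range_iff_exists_fun Kh).mp hb
      obtain ⟨t, ht⟩ := IsLocalization.exist_integer_multiples (nonZeroDivisors R) Finset.univ c
      obtain ⟨l, s, hs⟩ := hpow (t : R) (nonZeroDivisors.coe_ne_zero t)
      choose r hr using fun i => ht i (Finset.mem_univ i)
      refine ⟨l, ?_⟩
      have h2 : (t : R) • b = ∑ i, r i • pw i := by
        apply Subtype.ext
        rw [AddSubmonoidClass.coe_finsetSum, SetLike.val_smul, ← hc, Finset.smul_sum]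
        refine Finset.sum_congr rfl fun i _ => ?_
        rw [SetLike.val_smul, ← smul_assoc, ← hr i, IsScalarTower.algebraMap_smul]
        simp [pw, αB]
      rw [hs, mul_comm, mul_smul, h2]
      exact Submodule.smul_mem _ _ (Submodule.sum_mem _ fun i _ =>
        Submodule.smul_mem _ _ (Submodule.subset_span ⟨i, rfl⟩))
    choose lf hlf using hbot
    obtain ⟨S, hS⟩ := (inferInstance : Module.Finite R (integralClosure R M)).fg_top
    refine ⟨S.sup lf, fun b => ?_⟩
    have hb : b ∈ Submodule.span R (S : Set (integralClosure R M)) := by rw [hS]; trivial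
    induction hb using Submodule.span_induction with
    | mem x hx =>
      obtain ⟨j, hj⟩ := Nat.exists_eq_add_of_le (Finset.le_sup (f := lf) hx)
      rw [hj, pow_add, mul_comm, mul_smul]
      exact Submodule.smul_mem _ _ (hlf x)
    | zero => rw [smul_zero]; exact zero_mem _
    | add x y _ _ hx hy => rw [smul_add]; exact add_mem hx hy
    | smul c x _ hx => rw [smul_comm]; exact Submodule.smul_mem _ _ hx
  refine ⟨n, 2 * k + l + 1, fun i => P.coeff i, hnf, fun b hb => ?_⟩
  set Q : R[X] := X ^ n + ∑ i : Fin n, C (b i) * X ^ (i : ℕ) with hQ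
  have hQcoeff : ∀ i, (Q - P).coeff i ∈ maximalIdeal R ^ (2 * k + l + 1) := by
    intro i
    have : Q - P = ∑ j : Fin n, C (b j - P.coeff j) * X ^ (j : ℕ) := by
      conv_lhs => rw [hPmonic.as_sum, hQ, ← hn]
      rw [← Fin.sum_univ_eq_sum_range (fun j => C (P.coeff j) * X ^ j)]
      simp only [map_sub, sub_mul, Finset.sum_sub_distrib]
      ring
    rw [this, finsetSum_coeff]
    refine sum_mem fun j _ => ?_
    rw [coeff_C_mul_X_pow]
    split_ifs
    · exact hb j
    · exact zero_mem _
  obtain ⟨β, hβ, hβα⟩ := exists_root_close J PB ((Q - P).map (algebraMap R _)) αB hPBα k l hk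
    fun i => by
      rw [coeff_map, hJ, ← Ideal.map_pow]
      exact Ideal.mem_map_of_mem _ (hQcoeff i)
  rw [hPB, ← Polynomial.map_add, add_sub_cancel] at hβ
  have hQdeg : Q.natDegree = n ∧ Q.Monic := by
    rw [hQ]
    have hlt : (∑ i : Fin n, C (b i) * X ^ (i : ℕ)).degree < (n : WithBot ℕ) :=
      degree_sum_fin_lt b
    exact ⟨natDegree_eq_of_degree_eq_some (by
      rw [degree_add_eq_left_of_degree_lt (by rwa [degree_X_pow]), degree_X_pow]),
      monic_X_pow_add hlt⟩
  have hstep : ∀ a : Fin n → R, ∑ i, a i • (β : M) ^ (i : ℕ) = 0 →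
      ∃ a' : Fin n → R, (∀ i, a i = ϖ * a' i) ∧ ∑ i, a' i • (β : M) ^ (i : ℕ) = 0 := by
    intro a ha
    have h1 : ∑ i, a i • pw i ∈ J ^ (l + 1) := by
      have h0 : ∑ i, a i • β ^ (i : ℕ) = 0 := Subtype.ext (by simpa using ha)
      rw [show ∑ i, a i • pw i = ∑ i, a i • (pw i - β ^ (i : ℕ)) from by
        simp [smul_sub, Finset.sum_sub_distrib, h0]]
      refine sum_mem fun i _ => Submodule.smul_of_tower_mem _ _ ?_
      obtain ⟨w, hw⟩ := sub_dvd_pow_sub_pow αB β (i : ℕ)
      show αB ^ (i : ℕ) - β ^ (i : ℕ) ∈ J ^ (l + 1)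
      rw [hw]
      exact Ideal.mul_mem_right _ _ (by rw [← neg_sub]; exact neg_mem hβα)
    rw [hJpow, Ideal.mem_span_singleton'] at h1
    obtain ⟨x, hx⟩ := h1
    obtain ⟨c, hc⟩ := (Submodule.mem_span_range_iff_exists_fun R).mp (hl x)
    refine ⟨c, ?_⟩
    have h2 : ∑ i, a i • (α : M) ^ (i : ℕ) = ∑ i, (ϖ * c i) • (α : M) ^ (i : ℕ) := by
      have h3 : ∑ i, a i • pw i = ∑ i, (ϖ * c i) • pw i := by
        simp only [mul_smul, ← Finset.smul_sum]
        rw [hc, ← hx, pow_succ', map_mul, Algebra.smul_def, Algebra.smul_def]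
        ring
      have := congrArg (fun z : integralClosure R M => (z : M)) h3
      simpa [pw, αB] using this
    have h4 : ∀ i, a i = ϖ * c i := fun i =>
      sub_eq_zero.mp (Fintype.linearIndependent_iff.mp hliα (fun i => a i - ϖ * c i)
        (by simp only [sub_smul, Finset.sum_sub_distrib, h2, sub_self]) i)
    refine ⟨h4, ?_⟩
    simp only [h4, mul_smul, ← Finset.smul_sum] at ha
    have : algebraMap R M ϖ ≠ 0 := by
      rw [IsScalarTower.algebraMap_apply R Kh M, _root_.map_ne_zero]
      exact (map_ne_zero_iff _ (IsFractionRing.injective R Kh)).mpr hϖ.ne_zero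
    rw [Algebra.smul_def] at ha
    exact (mul_eq_zero.mp ha).resolve_left this
  have hliβ : LinearIndependent R fun i : Fin n => (β : M) ^ (i : ℕ) := by
    rw [Fintype.linearIndependent_iff]
    intro a ha i
    have : ∀ j (a : Fin n → R), ∑ i, a i • (β : M) ^ (i : ℕ) = 0 → a i ∈ maximalIdeal R ^ j := by
      intro j
      induction j with
      | zero => simp
      | succ j ih =>
        intro a ha
        obtain ⟨a', h1, h2⟩ := hstep a ha
        rw [h1 i, pow_succ']
        exact Ideal.mul_mem_mul (hm ▸ Ideal.mem_span_singleton_self ϖ) (ih a' h2)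
    refine IsHausdorff.haus (I := maximalIdeal R) (M := R) inferInstance _ fun j => ?_
    rw [SModEq.zero, smul_eq_mul, Ideal.mul_top]
    exact this j a ha
  refine ⟨(β : M), ?_⟩
  have hQβ : Polynomial.aeval (β : M) Q = 0 := by
    rw [← show (integralClosure R M).val β = (β : M) from rfl, aeval_algHom_apply, aeval_def,
      ← eval_map, hβ, map_zero]
  have hQKh : Polynomial.aeval (β : M) (Q.map (algebraMap R Kh)) = 0 := by
    rwa [aeval_map_algebraMap]
  have hge : n ≤ (minpoly Kh (β : M)).natDegree := by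
    by_contra hlt
    push Not at hlt
    have hmon := minpoly.monic (Algebra.IsIntegral.isIntegral (R := Kh) (β : M))
    have hzero : ∑ i : Fin n, (minpoly Kh (β : M)).coeff i • (β : M) ^ (i : ℕ) = 0 := by
      rw [Fin.sum_univ_eq_sum_range (fun i => (minpoly Kh (β : M)).coeff i • (β : M) ^ i),
        ← aeval_eq_sum_range' hlt, minpoly.aeval]
    have := Fintype.linearIndependent_iff.mp
      ((LinearIndependent.iff_fractionRing R Kh).mp hliβ) _ hzero
      ⟨_, hlt⟩
    rw [show ((⟨(minpoly Kh (β : M)).natDegree, hlt⟩ : Fin n) : ℕ) =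
      (minpoly Kh (β : M)).natDegree from rfl, hmon.coeff_natDegree] at this
    exact one_ne_zero this
  refine (minpoly.unique_of_degree_le_degree_minpoly Kh (β : M) (hQdeg.2.map _) hQKh ?_).symm
  rw [degree_eq_natDegree (hQdeg.2.map _).ne_zero, hQdeg.2.natDegree_map, hQdeg.1,
    degree_eq_natDegree (minpoly.ne_zero (Algebra.IsIntegral.isIntegral _))]
  exact_mod_cast hge

end Groth.Agent.Lib.DescExt4
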